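import Groth.Agent.FibreIndCons.Residue
import Groth.Agent.AmpleDesc.RelLimit
import Groth.Agent.LimTop.ModModel
import Groth.Agent.LimTop.LocFree
import Groth.Agent.ProjTwist.Invertible
import Groth.Agent.Props.QFP
import Groth.Agent.RadPtLib.Basic
import Groth.Prelude.Def_RelProj

/-!
Relatively ample invertible modules on a fibre spread out to a stage; quasi-projective fibre loci.
-/

set_option autoImplicit false
set_option linter.style.haveILetI false
set_option backward.isDefEq.respectTransparency.types false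

universe u

open CategoryTheory CategoryTheory.Limits AlgebraicGeometry

noncomputable section

namespace Groth.Agent.FibreIndCons

theorem isRelAmple_iso {A B : Scheme.{u}} {p : A ⟶ B} {M N : A.Modules} (e : M ≅ N)
    (h : RelAmple.IsRelAmple p M) : RelAmple.IsRelAmple p N :=
  ⟨h.1, fun V => AmpleLib.isAmple_of_iso ((Scheme.Modules.restrictFunctor (p ⁻¹ᵁ V.1).ι).mapIso e) (h.2 V)⟩

open Groth.Agent.QCoh Groth.Agent.Props.GenLocus in
theorem isFP_of_isInvertible {Y : Scheme.{u}} {L : Y.Modules} (hL : PicF.IsInvertible L) :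
    L.IsQuasicoherent ∧ CohB1.IsFP L := by
  haveI : L.IsQuasicoherent := ProjTwist.isQCoh_of_isInvertible hL
  refine ⟨‹_›, Props.QFP.isFP_of_forall_exists _ fun x => ?_⟩
  obtain ⟨U₀, g, hxU₀, hg⟩ := exists_isGen hL x
  obtain ⟨U, hU, hxU, hle⟩ := exists_isAffineOpen_mem_and_subset (U := U₀) (x := x) hxU₀
  exact ⟨U, hU, hxU, Module.FinitePresentation.of_equiv (LinearEquiv.ofBijective
    (LinearMap.toSpanSingleton Γ(Y, U) Γ(L, U) (res L hle g)) (hg U hle))⟩

theorem isInvertible_iff_lfLocus {Y : Scheme.{u}} (M : Y.Modules) :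
    PicF.IsInvertible M ↔ ∀ y, y ∈ LimTop.lfLocus ({1} : Set ℕ) M := by
  have e : ∀ U : Scheme.{u}, Nonempty (FlatMod.freeMod U 1 ≅ Coh.structureModule U) := fun U => ⟨coproductUniqueIso _⟩
  constructor
  · intro h y
    obtain ⟨U, hy, ⟨i⟩⟩ := h y
    exact ⟨U, 1, rfl, hy, ⟨i ≪≫ (e U).some.symm⟩⟩
  · intro h y
    obtain ⟨U, n, hn, hy, ⟨i⟩⟩ := h y
    obtain rfl : n = 1 := hn
    exact ⟨U, hy, ⟨i ≪≫ (e U).some⟩⟩

/-- An invertible module on a limit comes from an invertible module on a stage. -/
theorem exists_invertible_model {I : Type u} [SmallCategory I] [IsCofiltered I] {D : I ⥤ Scheme.{u}}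
    {c : Cone D} (hc : IsLimit c) [∀ (i j : I) (f : i ⟶ j), IsAffineHom (D.map f)] (i₀ : I)
    [CompactSpace (D.obj i₀)] [QuasiSeparatedSpace (D.obj i₀)]
    (M : c.pt.Modules) (hM : PicF.IsInvertible M) :
    ∃ (j : I) (_ : j ⟶ i₀) (G : (D.obj j).Modules), PicF.IsInvertible G ∧
      Nonempty ((Scheme.Modules.pullback (c.π.app j)).obj G ≅ M) := by
  obtain ⟨hqc, hfp⟩ := isFP_of_isInvertible hM
  haveI := hqc
  obtain ⟨j, φ, G, hG, hGfp, ⟨e⟩⟩ := LimTop.exists_model hc (i₀ := i₀) M hfp
  haveI := hG
  haveI : CompactSpace (D.obj j) := QuasiCompact.compactSpace_of_compactSpace (D.map φ)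
  have h1 : ∀ s, s ∈ LimTop.lfLocus ({1} : Set ℕ) ((Scheme.Modules.pullback (c.π.app j)).obj G) :=
    fun s => LimTop.lfLocus_subset_of_iso _ e.symm ((isInvertible_iff_lfLocus M).1 hM s)
  obtain ⟨k, ψ, hk⟩ := (LimTop.lfLocus_eventually hc _ G hGfp).1 h1
  refine ⟨k, ψ ≫ φ, (Scheme.Modules.pullback (D.map ψ)).obj G, (isInvertible_iff_lfLocus _).2 hk, ⟨?_⟩⟩
  exact (Scheme.Modules.pullbackComp _ _).app G ≪≫ (Scheme.Modules.pullbackCongr (c.w ψ)).app G ≪≫ e

section fib

variable {X Y S : Scheme.{u}} (f : X ⟶ Y) (g : Y ⟶ S)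

/-- The base change of `f` along `q : T ⟶ S`. -/
def fibMap {T : Scheme.{u}} (q : T ⟶ S) : pullback (f ≫ g) q ⟶ pullback g q :=
  pullback.lift (pullback.fst (f ≫ g) q ≫ f) (pullback.snd (f ≫ g) q)
    ((Category.assoc _ _ _).trans pullback.condition)

variable {T T' : Scheme.{u}} {q : T ⟶ S} {q' : T' ⟶ S} (v : T ⟶ T') (hv : v ≫ q' = q)

/-- The transition map of base changes of the source. -/
def transX : pullback (f ≫ g) q ⟶ pullback (f ≫ g) q' :=
  pullback.lift (pullback.fst (f ≫ g) q) (pullback.snd (f ≫ g) q ≫ v)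
    (by rw [Category.assoc (pullback.snd (f ≫ g) q), hv, pullback.condition])

/-- The transition map of base changes of the target. -/
def transY : pullback g q ⟶ pullback g q' :=
  pullback.lift (pullback.fst g q) (pullback.snd g q ≫ v)
    (by rw [Category.assoc, hv, pullback.condition])

theorem isPullback_fibMap : IsPullback (pullback.fst (f ≫ g) q) (fibMap f g q) f (pullback.fst g q) := by
  refine IsPullback.of_bot ?_ (pullback.lift_fst _ _ _).symm (IsPullback.of_hasPullback g q)
  rw [show fibMap f g q ≫ pullback.snd g q = pullback.snd (f ≫ g) q from pullback.lift_snd _ _ _]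
  exact IsPullback.of_hasPullback _ _

@[reassoc]
theorem fibMap_snd : fibMap f g q ≫ pullback.snd g q = pullback.snd (f ≫ g) q := pullback.lift_snd _ _ _

@[reassoc]
theorem fibMap_fst : fibMap f g q ≫ pullback.fst g q = pullback.fst (f ≫ g) q ≫ f := pullback.lift_fst _ _ _

@[reassoc]
theorem transX_fst : transX f g v hv ≫ pullback.fst (f ≫ g) q' = pullback.fst (f ≫ g) q := pullback.lift_fst _ _ _

@[reassoc]
theorem transX_snd : transX f g v hv ≫ pullback.snd (f ≫ g) q' = pullback.snd (f ≫ g) q ≫ v := pullback.lift_snd _ _ _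

@[reassoc]
theorem transY_fst : transY g v hv ≫ pullback.fst g q' = pullback.fst g q := pullback.lift_fst _ _ _

@[reassoc]
theorem transY_snd : transY g v hv ≫ pullback.snd g q' = pullback.snd g q ≫ v := pullback.lift_snd _ _ _

theorem isPullback_transY : IsPullback (transY g v hv) (pullback.snd g q) (pullback.snd g q') v := by
  refine IsPullback.of_right ?_ (pullback.lift_snd _ _ _) (IsPullback.of_hasPullback g q')
  rw [show transY g v hv ≫ pullback.fst g q' = pullback.fst g q from pullback.lift_fst _ _ _, hv]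
  exact IsPullback.of_hasPullback g q

theorem isPullback_transX : IsPullback (transX f g v hv) (fibMap f g q) (fibMap f g q') (transY g v hv) := by
  refine IsPullback.of_right ?_ ?_ (isPullback_fibMap f g (q := q'))
  · rw [transX_fst, show transY g v hv ≫ pullback.fst g q' = pullback.fst g q from pullback.lift_fst _ _ _]
    exact isPullback_fibMap f g
  · apply pullback.hom_ext
    · rw [Category.assoc, Category.assoc, fibMap_fst, transY_fst, fibMap_fst, transX_fst_assoc]
    · rw [Category.assoc, Category.assoc, fibMap_snd, transY_snd, fibMap_snd_assoc, transX_snd]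

end fib

variable {X Y S : Scheme.{u}} (f : X ⟶ Y) (g : Y ⟶ S)

/-- A relatively ample invertible module on the fibre at `s` comes from a stage of any presentation of
`Spec κ(s)`. -/
theorem exists_isRelAmple_stage_fibre [QuasiCompact g] [QuasiSeparated g] [QuasiCompact (f ≫ g)]
    [QuasiSeparated (f ≫ g)] {s : S} {I : Type u} [SmallCategory I] [IsCofiltered I]
    (D : I ⥤ Scheme.{u}) (c : Cone D) (hc : IsLimit c) (e : Spec (S.residueField s) ≅ c.pt)
    (a : ∀ i, D.obj i ⟶ S) [∀ i, IsAffine (D.obj i)]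
    (haD : ∀ {i j : I} (φ : i ⟶ j), D.map φ ≫ a j = a i)
    (hae : ∀ i, e.hom ≫ c.π.app i ≫ a i = S.fromSpecResidueField s)
    {M : (pullback (f ≫ g) (S.fromSpecResidueField s)).Modules}
    (hM : RelAmple.IsRelAmple (fibMap f g (S.fromSpecResidueField s)) M) :
    ∃ (i : I) (L : (pullback (f ≫ g) (a i)).Modules), PicF.IsInvertible L ∧
      RelAmple.IsRelAmple (fibMap f g (a i)) L := by
  haveI : ∀ (i j : I) (φ : i ⟶ j), IsAffineHom (D.map φ) := fun i j φ => inferInstance
  obtain ⟨i₀⟩ := IsCofiltered.nonempty (C := I)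
  let π : ∀ i, Spec (S.residueField s) ⟶ D.obj i := fun i => e.hom ≫ c.π.app i
  have hπ : ∀ i, π i ≫ a i = S.fromSpecResidueField s := fun i => (Category.assoc _ _ _).trans (hae i)
  have hsq : ∀ i, IsPullback (transY g (π i) (hπ i)) (pullback.snd g _ ≫ e.hom) (pullback.snd g (a i))
      (c.π.app i) := fun i =>
    (isPullback_transY g (π i) (hπ i)).of_iso (Iso.refl _) (Iso.refl _) e (Iso.refl _)
      (by simp) (by simp) (by simp) (by simp [π])
  have hsqX : IsPullback (transX f g (π i₀) (hπ i₀)) (pullback.snd (f ≫ g) _ ≫ e.hom)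
      (pullback.snd (f ≫ g) (a i₀)) (c.π.app i₀) := by
    have h := (isPullback_transX f g (π i₀) (hπ i₀)).paste_vert (hsq i₀)
    rw [fibMap_snd] at h
    rwa [← Category.assoc, fibMap_snd] at h
  let i₁ : Over i₀ := Over.mk (𝟙 i₀)
  haveI : CompactSpace ↑((LimLib.bcDiag D i₀ (pullback.snd (f ≫ g) (a i₀))).obj i₁) :=
    QuasiCompact.compactSpace_of_compactSpace (pullback.snd (pullback.snd (f ≫ g) (a i₀)) (D.map i₁.hom))
  have hq₁ : QuasiSeparated (pullback.snd (f ≫ g) (a i₀)) := MorphismProperty.pullback_snd _ _ ‹_›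
  have hq₂ : QuasiSeparated (pullback.snd (pullback.snd (f ≫ g) (a i₀)) (D.map i₁.hom)) :=
    MorphismProperty.pullback_snd (P := @QuasiSeparated) _ _ hq₁
  haveI : QuasiSeparatedSpace ↑((LimLib.bcDiag D i₀ (pullback.snd (f ≫ g) (a i₀))).obj i₁) :=
    @quasiSeparatedSpace_of_quasiSeparated _ _ (pullback.snd (pullback.snd (f ≫ g) (a i₀)) (D.map i₁.hom)) inferInstance hq₂
  obtain ⟨k, -, G, hG, ⟨ι⟩⟩ := exists_invertible_model (LimLib.isLimitBcCone hc hsqX) i₁ M
    (AmpleLib.isInvertible_of_isRelAmple hM)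
  let ψ : pullback (f ≫ g) (a k.left) ⟶ pullback (pullback.snd (f ≫ g) (a i₀)) (D.map k.hom) :=
    pullback.lift (transX f g (D.map k.hom) (haD k.hom)) (pullback.snd _ _) (pullback.lift_snd _ _ _)
  have hψ : transX f g (π k.left) (hπ k.left) ≫ ψ = (LimLib.bcCone hsqX).π.app k := by
    apply pullback.hom_ext
    · refine Eq.trans ?_ (show (LimLib.bcCone hsqX).π.app k ≫ pullback.fst _ _ = transX f g (π i₀) (hπ i₀) from
        pullback.lift_fst _ _ _).symm
      rw [Category.assoc, pullback.lift_fst]
      apply pullback.hom_ext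
      · rw [Category.assoc, transX_fst, transX_fst, transX_fst]
      · rw [Category.assoc, transX_snd, transX_snd_assoc, transX_snd]
        simp [π]
    · refine Eq.trans ?_ (show (LimLib.bcCone hsqX).π.app k ≫ pullback.snd _ _ =
        (pullback.snd (f ≫ g) _ ≫ e.hom) ≫ c.π.app k.left from pullback.lift_snd _ _ _).symm
      rw [Category.assoc, pullback.lift_snd, transX_snd, Category.assoc]
  let L := (Scheme.Modules.pullback ψ).obj G
  have hL : PicF.IsInvertible L := PicCl.isInvertible_pullback ψ hG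
  have hML : RelAmple.IsRelAmple (fibMap f g (S.fromSpecResidueField s))
      ((Scheme.Modules.pullback (transX f g (π k.left) (hπ k.left))).obj L) :=
    isRelAmple_iso (ι.symm ≪≫ (Scheme.Modules.pullbackCongr hψ.symm).app G ≪≫
      ((Scheme.Modules.pullbackComp _ ψ).app G).symm) hM
  haveI : QuasiCompact (fibMap f g (a k.left) ≫ pullback.snd g (a k.left)) := by
    rw [fibMap_snd]; exact MorphismProperty.pullback_snd _ _ ‹_›
  haveI : QuasiSeparated (fibMap f g (a k.left) ≫ pullback.snd g (a k.left)) := by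
    rw [fibMap_snd]; exact MorphismProperty.pullback_snd _ _ ‹_›
  haveI : QuasiCompact (fibMap f g (a k.left)) := QuasiCompact.of_comp _ (pullback.snd g (a k.left))
  haveI : QuasiSeparated (fibMap f g (a k.left)) := QuasiSeparated.of_comp _ (pullback.snd g (a k.left))
  haveI : CompactSpace ↑(pullback g (a k.left)) :=
    QuasiCompact.compactSpace_of_compactSpace (pullback.snd g (a k.left))
  obtain ⟨l, hl⟩ := AmpleDesc.exists_isRelAmple_stage hc (fibMap f g (a k.left)) (pullback.snd g (a k.left))
    hL (hsq k.left) (isPullback_transX f g (π k.left) (hπ k.left)) hML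
  refine ⟨l.left, (Scheme.Modules.pullback (transX f g (D.map l.hom) (haD l.hom))).obj L,
    PicCl.isInvertible_pullback _ hL, ?_⟩
  let fl := pullback.lift (pullback.fst (fibMap f g (a k.left) ≫ pullback.snd g (a k.left)) (D.map l.hom) ≫
      fibMap f g (a k.left)) (pullback.snd _ _) ((Category.assoc _ _ _).trans pullback.condition)
  let zX : pullback (f ≫ g) (a l.left) ⟶
      pullback (fibMap f g (a k.left) ≫ pullback.snd g (a k.left)) (D.map l.hom) :=
    pullback.lift (transX f g (D.map l.hom) (haD l.hom)) (pullback.snd _ _)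
      (by rw [fibMap_snd]; exact pullback.lift_snd _ _ _)
  let zY : pullback g (a l.left) ⟶ pullback (pullback.snd g (a k.left)) (D.map l.hom) :=
    pullback.lift (transY g (D.map l.hom) (haD l.hom)) (pullback.snd _ _) (pullback.lift_snd _ _ _)
  have hfl : IsPullback (pullback.fst (fibMap f g (a k.left) ≫ pullback.snd g (a k.left)) (D.map l.hom)) fl
      (fibMap f g (a k.left)) (pullback.fst (pullback.snd g (a k.left)) (D.map l.hom)) :=
    isPullback_fibMap _ _
  have hzX : zX ≫ pullback.fst _ _ = transX f g (D.map l.hom) (haD l.hom) := pullback.lift_fst _ _ _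
  have hz : IsPullback zX (fibMap f g (a l.left)) fl zY := by
    refine IsPullback.of_right ?_ ?_ hfl
    · rw [hzX, show zY ≫ pullback.fst _ _ = transY g (D.map l.hom) (haD l.hom) from pullback.lift_fst _ _ _]
      exact isPullback_transX f g (D.map l.hom) (haD l.hom)
    · apply pullback.hom_ext
      · simp only [Category.assoc, fl, zY, pullback.lift_fst]
        rw [← Category.assoc zX, hzX]
        exact (isPullback_transX f g (D.map l.hom) (haD l.hom)).w
      · rw [Category.assoc, Category.assoc, pullback.lift_snd, pullback.lift_snd, pullback.lift_snd, fibMap_snd]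
  exact isRelAmple_iso ((Scheme.Modules.pullbackComp zX _).app L ≪≫ (Scheme.Modules.pullbackCongr hzX).app L)
    (AmpleDesc.isRelAmple_of_isPullback hz hl)

/-- A point of an immersion gives the fibre at its image. -/
theorem exists_residueField_section {T : Scheme.{u}} (a : T ⟶ S) [IsImmersion a] (b : T) :
    ∃ v : Spec (S.residueField (a b)) ⟶ T, v ≫ a = S.fromSpecResidueField (a b) := by
  haveI : IsIso (a.residueFieldMap b) :=
    (ConcreteCategory.isIso_iff_bijective _).2 (RadPtLib.residueFieldMap_bijective a b)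
  exact ⟨inv (Spec.map (a.residueFieldMap b)) ≫ T.fromSpecResidueField b, by
    rw [Category.assoc, ← Scheme.Hom.SpecMap_residueFieldMap_fromSpecResidueField, IsIso.inv_hom_id_assoc]⟩

/-- The locus of quasi-projective fibre maps is ind-constructible. -/
theorem isIndConstructible_isQuasiProjective [LocallyOfFiniteType f] [QuasiCompact g] [QuasiSeparated g]
    [QuasiCompact (f ≫ g)] [QuasiSeparated (f ≫ g)] :
    ProCons.IsIndConstructible {s : S | RelProj.IsQuasiProjective (fibMap f g (S.fromSpecResidueField s))} := by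
  refine isIndConstructible_of_spread_imm fun s hs I _ _ D c hc e a hD haD hae hi => ?_
  haveI := hD
  obtain ⟨-, -, M, hM⟩ := hs
  obtain ⟨i, L, -, hL⟩ := exists_isRelAmple_stage_fibre f g D c hc e a haD hae hM
  refine ⟨i, ?_⟩
  rintro _ ⟨b, rfl⟩
  haveI := hi i
  obtain ⟨v, hv⟩ := exists_residueField_section (a i) b
  have h := AmpleDesc.isRelAmple_of_isPullback (isPullback_transX f g v hv) hL
  exact ⟨MorphismProperty.of_isPullback (isPullback_fibMap f g) ‹_›, h.1, _, h⟩

end Groth.Agent.FibreIndCons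

end
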