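import Groth.Agent.ConsPairLib.Basic
import Groth.Agent.ConsPairLib.Loci
import Groth.Agent.ConsPairLib.QuasiAffine
import Groth.Agent.ConsPropLib.Examples
import Groth.Agent.LimLib.Props

/-!
Properties of morphisms which descend along limits and along field extensions are ind-constructible
properties of the morphisms of fibres.
-/

universe u

open CategoryTheory CategoryTheory.Limits AlgebraicGeometry Topology MorphismProperty

namespace Groth.Agent.FibreIndCons

open ConsPairLib

variable {Q : MorphismProperty Scheme.{u}} [Q.IsStableUnderBaseChange]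
  [Q.DescendsAlong FpqcDesc.FPQC.{u}]

theorem isFieldStableMor_of_descendsAlong :
    ConsProp.IsFieldStableMor (fun X Y (_ : Scheme.{u}) f _ => Q (X := X) (Y := Y) f) := by
  intro X X' Y Y' T T' f g f' g' eX eY h _ _ _ _ _ _ _ _ sY sX
  refine ⟨fun hf => MorphismProperty.of_isPullback sX hf, fun hf => ?_⟩
  exact MorphismProperty.DescendsAlong.of_isPullback (P := Q) (Q := FpqcDesc.FPQC.{u}) sX.flip
    (MorphismProperty.of_isPullback sY.flip (ConsPropLib.fpqc_of_points h)) hf

theorem isIndConsMor_of_descends (h : LimLib.Descends.{u} Q @LocallyOfFinitePresentation) :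
    ConsProp.IsIndConsMor (fun X Y (_ : Scheme.{u}) f _ => Q (X := X) (Y := Y) f) := by
  refine ⟨isFieldStableMor_of_descendsAlong, fun X Y S f g _ _ _ _ _ _ hη => ?_⟩
  set η := genericPoint S with hηdef
  let p : Spec (S.residueField η) ⟶ S := S.fromSpecResidueField η
  obtain ⟨_, ⟨V, hV, rfl⟩, hηV, -⟩ := S.isBasis_affineOpens.exists_subset_of_mem_open
    (Set.mem_univ η) isOpen_univ
  replace hV : IsAffineOpen V := hV
  have hrange : Set.range p ⊆ Set.range hV.fromSpec := by
    rintro _ ⟨x, rfl⟩
    rw [IsAffineOpen.range_fromSpec, Scheme.fromSpecResidueField_apply]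
    exact hηV
  haveI : IsNoetherianRing Γ(S, V) := IsLocallyNoetherian.component_noetherian ⟨V, hV⟩
  obtain ⟨φ, hφ⟩ := Spec.map_surjective (IsOpenImmersion.lift hV.fromSpec p hrange)
  obtain ⟨I, _, _, D, c, t, e, ⟨hc⟩, hD, ht, hce⟩ := exists_limit_presentation _ _ φ
  haveI : ∀ (i j : I) (a : i ⟶ j), IsAffineHom (D.map a) := fun i j a => by
    haveI := hD i; haveI := hD j; infer_instance
  haveI : ∀ i, CompactSpace (D.obj i) := fun i => by haveI := hD i; infer_instance
  haveI : ∀ i, QuasiSeparatedSpace (D.obj i) := fun i => by haveI := hD i; infer_instance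
  obtain ⟨i₀⟩ := IsCofiltered.nonempty (C := I)
  let a : ∀ i, D.obj i ⟶ S := fun i => t.app i ≫ hV.fromSpec
  have hea : ∀ i, (e.hom ≫ c.π.app i) ≫ a i = p := fun i => by
    simp only [a, Category.assoc]
    rw [← Category.assoc (c.π.app i), ← Category.assoc e.hom, hce, hφ, IsOpenImmersion.lift_fac]
  haveI : QuasiSeparated g :=
    haveI := LocallyOfFiniteType.isLocallyNoetherian g; inferInstance
  haveI : QuasiSeparated (f ≫ g) :=
    haveI := LocallyOfFiniteType.isLocallyNoetherian (f ≫ g); inferInstance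
  haveI : LocallyOfFinitePresentation g := LocallyOfFinitePresentation.iff_locallyOfFiniteType.2 ‹_›
  haveI : LocallyOfFinitePresentation (f ≫ g) := LocallyOfFinitePresentation.iff_locallyOfFiniteType.2 ‹_›
  -- the stage morphism
  let g₀ := pullback.snd g (a i₀)
  let f₀ : pullback (f ≫ g) (a i₀) ⟶ pullback g (a i₀) :=
    pullback.lift (pullback.fst _ _ ≫ f) (pullback.snd _ _) (by rw [Category.assoc, pullback.condition])
  have hf₀ : f₀ ≫ g₀ = pullback.snd (f ≫ g) (a i₀) := pullback.lift_snd _ _ _
  have hF₀ : IsPullback (pullback.fst (f ≫ g) (a i₀)) f₀ f (pullback.fst g (a i₀)) := by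
    refine IsPullback.of_bot ?_ (pullback.lift_fst _ _ _).symm (IsPullback.of_hasPullback g (a i₀))
    rw [hf₀]
    exact IsPullback.of_hasPullback _ _
  have hY : IsPullback (pullback.lift (g.fiberι η) (g.fiberToSpecResidueField η ≫ e.hom ≫ c.π.app i₀)
      (by rw [Category.assoc, hea]; exact g.fiber_fac η))
      (g.fiberToSpecResidueField η ≫ e.hom) g₀ (c.π.app i₀) := by
    refine IsPullback.of_right ?_ (by rw [pullback.lift_snd, Category.assoc]) (IsPullback.of_hasPullback g (a i₀))
    rw [pullback.lift_fst]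
    refine (IsPullback.of_hasPullback g p).of_iso (Iso.refl _) (Iso.refl _) e (Iso.refl _) ?_ ?_ ?_ ?_
    · simp only [Iso.refl_hom, Category.id_comp, Category.comp_id]; rfl
    · simp only [Iso.refl_hom, Category.id_comp]; rfl
    · simp
    · simpa using (hea i₀).symm
  set qY := pullback.lift (g.fiberι η) (g.fiberToSpecResidueField η ≫ e.hom ≫ c.π.app i₀)
      (by rw [Category.assoc, hea]; exact g.fiber_fac η) with hqY
  have hqY1 : qY ≫ pullback.fst g (a i₀) = g.fiberι η := pullback.lift_fst _ _ _
  have hX : IsPullback (hF₀.lift ((f ≫ g).fiberι η) (MoreMor.fiberMap f g η ≫ qY)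
      (by rw [Category.assoc, hqY1, ConsPropLib.fiberMap_ι])) (MoreMor.fiberMap f g η) f₀ qY := by
    refine IsPullback.of_right ?_ (hF₀.lift_snd _ _ _) hF₀
    rw [hF₀.lift_fst, hqY1]
    exact ConsPropLib.isPullback_fiberMap f g η
  haveI : LocallyOfFinitePresentation g₀ := MorphismProperty.pullback_snd _ _ ‹_›
  haveI : QuasiCompact g₀ := MorphismProperty.pullback_snd _ _ ‹_›
  haveI : QuasiSeparated g₀ := MorphismProperty.pullback_snd _ _ ‹_›
  haveI : LocallyOfFinitePresentation (f₀ ≫ g₀) := by rw [hf₀]; exact MorphismProperty.pullback_snd _ _ ‹_›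
  haveI : QuasiCompact (f₀ ≫ g₀) := by rw [hf₀]; exact MorphismProperty.pullback_snd _ _ ‹_›
  haveI : QuasiSeparated (f₀ ≫ g₀) := by rw [hf₀]; exact MorphismProperty.pullback_snd _ _ ‹_›
  obtain ⟨i, χ, Xi, Yi, fi, gi, pY, pX, hYi, hXi, hfi⟩ :=
    EGA43Lim.exists_stage_fp hc hY hX h (fun _ ha => ha) hη
  -- the base change to the residue fields of the stage
  have hai : D.map χ ≫ a i₀ = a i := by simp [a]
  have jY : IsPullback (pY ≫ pullback.fst g (a i₀)) gi g (a i) := by
    rw [← hai]
    exact hYi.paste_horiz (IsPullback.of_hasPullback g (a i₀))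
  have jX : IsPullback (pX ≫ pullback.fst (f ≫ g) (a i₀)) fi f (pY ≫ pullback.fst g (a i₀)) :=
    hXi.paste_horiz hF₀
  have hsub : Set.range (a i) ⊆ ConsProp.locusMor (fun X Y (_ : Scheme.{u}) f _ => Q (X := X) (Y := Y) f) f g := by
    rintro _ ⟨b, rfl⟩
    let s := a i b
    let κ := Spec.map ((a i).residueFieldMap b)
    have hκ : κ ≫ S.fromSpecResidueField s = (D.obj i).fromSpecResidueField b ≫ a i :=
      (a i).SpecMap_residueFieldMap_fromSpecResidueField b
    -- the fibre over `κ(b)`
    let Yb := pullback (g.fiberToSpecResidueField s) κ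
    let Xb := pullback (MoreMor.fiberMap f g s) (pullback.fst (g.fiberToSpecResidueField s) κ)
    let fb : Xb ⟶ Yb := pullback.snd _ _
    have hYb : IsPullback (pullback.fst (g.fiberToSpecResidueField s) κ ≫ g.fiberι s)
        (pullback.snd (g.fiberToSpecResidueField s) κ) g (κ ≫ S.fromSpecResidueField s) :=
      (IsPullback.of_hasPullback (g.fiberToSpecResidueField s) κ).paste_horiz (IsPullback.of_hasPullback g _)
    have hXb : IsPullback (pullback.fst _ _ ≫ (f ≫ g).fiberι s) fb f
        (pullback.fst (g.fiberToSpecResidueField s) κ ≫ g.fiberι s) :=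
      (IsPullback.of_hasPullback _ _).paste_horiz (ConsPropLib.isPullback_fiberMap f g s)
    rw [hκ] at hYb
    let rY : Yb ⟶ Yi := jY.lift (pullback.fst (g.fiberToSpecResidueField s) κ ≫ g.fiberι s)
      (pullback.snd (g.fiberToSpecResidueField s) κ ≫ (D.obj i).fromSpecResidueField b)
      (by rw [Category.assoc, Category.assoc]; exact (Category.assoc _ _ _).symm.trans hYb.w)
    have hrY : rY ≫ pY ≫ pullback.fst g (a i₀) = pullback.fst (g.fiberToSpecResidueField s) κ ≫ g.fiberι s :=
      jY.lift_fst _ _ _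
    let rX : Xb ⟶ Xi := jX.lift (pullback.fst _ _ ≫ (f ≫ g).fiberι s) (fb ≫ rY)
      (by rw [Category.assoc fb, hrY]; exact hXb.w)
    have hfb : IsPullback rX fb fi rY := by
      refine IsPullback.of_right ?_ (jX.lift_snd _ _ _) jX
      rw [jX.lift_fst, hrY]
      exact hXb
    have hQb : Q fb := MorphismProperty.of_isPullback hfb hfi
    haveI : LocallyOfFiniteType (g.fiberToSpecResidueField s) := ConsPropLib.locallyOfFiniteType_fiberTo g _
    haveI : QuasiCompact (g.fiberToSpecResidueField s) := ConsPropLib.quasiCompact_fiberTo g _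
    show Q (MoreMor.fiberMap f g s)
    exact MorphismProperty.DescendsAlong.of_isPullback (P := Q) (Q := FpqcDesc.FPQC.{u})
      (IsPullback.of_hasPullback (MoreMor.fiberMap f g s) (pullback.fst (g.fiberToSpecResidueField s) κ)).flip
      (MorphismProperty.of_isPullback (IsPullback.of_hasPullback (g.fiberToSpecResidueField s) κ).flip
        (ConsPropLib.fpqc_of_points κ)) hQb
  haveI := hD i
  haveI := ht i
  haveI : LocallyOfFiniteType (a i) := inferInstance
  haveI : IsLocallyNoetherian (D.obj i) := LocallyOfFiniteType.isLocallyNoetherian (a i)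
  haveI : AlgebraicGeometry.IsNoetherian (D.obj i) := ⟨⟩
  haveI : QuasiCompact (a i) := inferInstance
  haveI : LocallyOfFinitePresentation (a i) :=
    LocallyOfFinitePresentation.iff_locallyOfFiniteType.2 ‹_›
  have hcons : IsConstructible (Set.range (a i)) := by
    rw [← Set.image_univ]
    exact (a i).isConstructible_image IsConstructible.univ
  have hmem : genericPoint S ∈ Set.range (a i) := by
    refine ⟨(e.hom ≫ c.π.app i) (Classical.arbitrary _), ?_⟩
    rw [← Scheme.Hom.comp_apply, hea i, Scheme.fromSpecResidueField_apply]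
  obtain ⟨U, hU, hmemU, hUsub⟩ := ConsPropLib.exists_open_subset_of_generic hcons hmem
  exact ⟨_, interior_maximal (hUsub.trans hsub) hU hmemU⟩

set_option backward.isDefEq.respectTransparency.types false in
/-- Quasi-affine morphisms descend along fpqc coverings. -/
theorem descendsAlong_qaMor : DescendsAlong qaMor.{u} FpqcDesc.FPQC.{u} := by
  apply IsZariskiLocalAtTarget.descendsAlong_inf_quasiCompact
  · rw [inf_comm]
    exact inf_le_inf le_rfl (IsLocalIso.le_of_isZariskiLocalAtSource _)
  intro R T Y φ g h (hfst : qaMor _)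
  have := FpqcDesc.descendsAlong_quasiCompact.{u}
  have := FpqcDesc.descendsAlong_quasiSeparated.{u}
  have : Flat (Spec.map φ) := h.2
  have : Surjective (Spec.map φ) := h.1
  let Y' := pullback (Spec.map φ) g
  haveI hY' : Y'.IsQuasiAffine := (HasAffineProperty.iff_of_isAffine (P := qaMor.{u})).1 hfst
  haveI : CompactSpace Y' := hY'.toCompactSpace
  haveI : QuasiSeparatedSpace Y' := quasiSeparatedSpace_of_quasiSeparated Y'.toSpecΓ
  have hqc : QuasiCompact g := MorphismProperty.of_pullback_fst_of_descendsAlong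
    (P := @QuasiCompact) (Q := FpqcDesc.FPQC) (f := Spec.map φ) ⟨h, inferInstance⟩
    (quasiCompact_of_compactSpace _)
  have hqs : QuasiSeparated g := MorphismProperty.of_pullback_fst_of_descendsAlong
    (P := @QuasiSeparated) (Q := FpqcDesc.FPQC) (f := Spec.map φ) ⟨h, inferInstance⟩
    (QuasiSeparated.of_quasiSeparatedSpace _)
  have : CompactSpace Y := QuasiCompact.compactSpace_of_compactSpace g
  have : QuasiSeparatedSpace Y := quasiSeparatedSpace_of_quasiSeparated g
  refine (HasAffineProperty.iff_of_isAffine (P := qaMor.{u})).2 ?_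
  have H : IsPullback (pullback.snd (Spec.map φ) g) (pullback.fst (Spec.map φ) g) g (Spec.map φ) :=
    (IsPullback.of_hasPullback _ _).flip
  have hiso := isIso_pushoutSection_of_isQuasiSeparated_of_flat_right H
    (US := ⊤) (UT := ⊤) (UX := ⊤) (UY := ⊤) (by simp) (by simp) (by simp)
    (isAffineOpen_top _) (isAffineOpen_top _) isCompact_univ
    (isQuasiSeparated_univ_iff.2 inferInstance)
  have hpo := (isIso_pushoutSection_iff ..).1 hiso
  have e : ∀ {A B : Scheme.{u}} (f : A ⟶ B) (h : (⊤ : A.Opens) ≤ f ⁻¹ᵁ ⊤),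
      f.appLE ⊤ ⊤ h = f.appTop := fun {A B} f h => by simp [Scheme.Hom.appLE, Scheme.Hom.appTop]
  simp only [e] at hpo
  have hS : IsPullback (Spec.map (pullback.snd (Spec.map φ) g).appTop)
      (Spec.map (pullback.fst (Spec.map φ) g).appTop) (Spec.map g.appTop)
      (Spec.map (Spec.map φ).appTop) := by
    have := (hpo.op.map Scheme.Spec)
    simpa using this.flip
  have hsq : IsPullback (pullback.snd (Spec.map φ) g) Y'.toSpecΓ Y.toSpecΓ
      (Spec.map (pullback.snd (Spec.map φ) g).appTop) := by
    refine IsPullback.of_bot ?_ (Scheme.toSpecΓ_naturality (pullback.snd (Spec.map φ) g)) hS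
    refine H.of_iso (Iso.refl _) (Iso.refl _) (asIso (Spec T).toSpecΓ) (asIso (Spec R).toSpecΓ)
      (by simp) ?_ ?_ ?_
    · simpa using (Scheme.toSpecΓ_naturality (pullback.fst (Spec.map φ) g))
    · simpa using (Scheme.toSpecΓ_naturality g)
    · simpa using (Scheme.toSpecΓ_naturality (Spec.map φ))
  have hq : FpqcDesc.FPQC (Spec.map (pullback.snd (Spec.map φ) g).appTop) := by
    have hfpqc : FpqcDesc.FPQC (Spec.map (Spec.map φ).appTop) := by
      have e := Scheme.toSpecΓ_naturality (Spec.map φ)
      have : Spec.map (Spec.map φ).appTop =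
          (asIso (Spec T).toSpecΓ).inv ≫ Spec.map φ ≫ (Spec R).toSpecΓ := by
        rw [e, asIso_inv, IsIso.inv_hom_id_assoc]
      rw [this, cancel_left_of_respectsIso FpqcDesc.FPQC, cancel_right_of_respectsIso FpqcDesc.FPQC]
      exact ⟨⟨inferInstance, inferInstance⟩, inferInstance⟩
    exact MorphismProperty.of_isPullback hS.flip hfpqc
  haveI : IsOpenImmersion Y.toSpecΓ := MorphismProperty.of_isPullback_of_descendsAlong
    (P := @IsOpenImmersion) (Q := FpqcDesc.FPQC) hsq.flip hq (inferInstanceAs (IsOpenImmersion Y'.toSpecΓ))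
  exact { toCompactSpace := inferInstance, toIsImmersion := inferInstance }

end Groth.Agent.FibreIndCons
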