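import Mathlib
import Groth.Prelude.Def_ProCons

/-!
A residue field is a filtered colimit of finitely presented algebras over a ring of sections; the spreading
criterion for ind-constructible subsets.
-/

set_option autoImplicit false
set_option linter.style.haveILetI false

universe u

open CategoryTheory CategoryTheory.Limits AlgebraicGeometry Topology

noncomputable section

namespace Groth.Agent.FibreIndCons

section Ring

variable {A K : CommRingCat.{u}} (φ : A ⟶ K)

/-- The index set of the presentation. -/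
abbrev FpIdx : Type u := Finset {a : A // IsUnit (φ.hom a)} × Finset {a : A // φ.hom a = 0}

/-- The localization at a stage. -/
abbrev FpLoc (i : FpIdx φ) : Type u := Localization.Away (∏ a ∈ i.1, (a : A))

/-- The ideal at a stage. -/
def fpIdeal (i : FpIdx φ) : Ideal (FpLoc φ i) :=
  Ideal.span ((fun x : {a : A // φ.hom a = 0} => algebraMap A (FpLoc φ i) x.1) '' (i.2 : Set _))

/-- The ring at a stage. -/
abbrev FpStage (i : FpIdx φ) : Type u := FpLoc φ i ⧸ fpIdeal φ i

theorem fpStage_hom_ext {i : FpIdx φ} {R : Type u} [CommRing R] {f g : FpStage φ i →+* R}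
    (h : f.comp (algebraMap A (FpStage φ i)) = g.comp (algebraMap A (FpStage φ i))) : f = g := by
  apply Ideal.Quotient.ringHom_ext
  apply IsLocalization.ringHom_ext (Submonoid.powers (∏ a ∈ i.1, (a : A)))
  exact h

theorem isUnit_prod_map {i : FpIdx φ} {R : Type u} [CommRing R] (ψ : A →+* R)
    (h : ∀ a ∈ i.1, IsUnit (ψ (a : A))) : IsUnit (ψ (∏ a ∈ i.1, (a : A))) := by
  rw [map_prod]
  exact IsUnit.prod_iff.2 h

/-- The universal property of a stage. -/
def fpLift (i : FpIdx φ) {R : Type u} [CommRing R] (ψ : A →+* R) (h₁ : ∀ a ∈ i.1, IsUnit (ψ (a : A)))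
    (h₂ : ∀ a ∈ i.2, ψ (a : A) = 0) : FpStage φ i →+* R :=
  Ideal.Quotient.lift (fpIdeal φ i)
    (IsLocalization.Away.lift (∏ a ∈ i.1, (a : A)) (g := ψ) (isUnit_prod_map φ ψ h₁)) (by
      intro x hx
      have : fpIdeal φ i ≤ RingHom.ker
          (IsLocalization.Away.lift (∏ a ∈ i.1, (a : A)) (g := ψ) (isUnit_prod_map φ ψ h₁) : FpLoc φ i →+* R) := by
        rw [fpIdeal, Ideal.span_le]
        rintro _ ⟨a, ha, rfl⟩
        simpa using h₂ a ha
      exact this hx)

theorem fpLift_comp (i : FpIdx φ) {R : Type u} [CommRing R] (ψ : A →+* R) (h₁ : ∀ a ∈ i.1, IsUnit (ψ (a : A)))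
    (h₂ : ∀ a ∈ i.2, ψ (a : A) = 0) : (fpLift φ i ψ h₁ h₂).comp (algebraMap A (FpStage φ i)) = ψ := by
  ext a
  exact IsLocalization.Away.lift_eq (∏ a ∈ i.1, (a : A)) (isUnit_prod_map φ ψ h₁) a

theorem fpLift_algebraMap (i : FpIdx φ) {R : Type u} [CommRing R] (ψ : A →+* R)
    (h₁ : ∀ a ∈ i.1, IsUnit (ψ (a : A))) (h₂ : ∀ a ∈ i.2, ψ (a : A) = 0) (a : A) :
    fpLift φ i ψ h₁ h₂ (algebraMap A (FpStage φ i) a) = ψ a :=
  RingHom.congr_fun (fpLift_comp φ i ψ h₁ h₂) a

theorem isUnit_algebraMap_fpStage {i : FpIdx φ} {a : {a : A // IsUnit (φ.hom a)}} (h : a ∈ i.1) :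
    IsUnit (algebraMap A (FpStage φ i) a.1) := by
  have h1 : IsUnit (algebraMap A (FpLoc φ i) (∏ a ∈ i.1, (a : A))) :=
    IsLocalization.Away.algebraMap_isUnit _
  rw [map_prod, IsUnit.prod_iff] at h1
  exact (h1 a h).map (Ideal.Quotient.mk (fpIdeal φ i))

theorem algebraMap_fpStage_eq_zero {i : FpIdx φ} {a : {a : A // φ.hom a = 0}} (h : a ∈ i.2) :
    algebraMap A (FpStage φ i) a.1 = 0 :=
  Ideal.Quotient.eq_zero_iff_mem.2 (Ideal.subset_span ⟨a, h, rfl⟩)

/-- The transition maps. -/
def fpTrans {i j : FpIdx φ} (h : i ≤ j) : FpStage φ i →+* FpStage φ j :=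
  fpLift φ i (algebraMap A (FpStage φ j)) (fun _ ha => isUnit_algebraMap_fpStage φ (h.1 ha))
    (fun _ ha => algebraMap_fpStage_eq_zero φ (h.2 ha))

theorem fpTrans_comp_algebraMap {i j : FpIdx φ} (h : i ≤ j) :
    (fpTrans φ h).comp (algebraMap A (FpStage φ i)) = algebraMap A (FpStage φ j) :=
  fpLift_comp _ _ _ _ _

/-- The diagram of stages. -/
def fpDiag : FpIdx φ ⥤ CommRingCat.{u} where
  obj i := CommRingCat.of (FpStage φ i)
  map f := CommRingCat.ofHom (fpTrans φ ⟨leOfHom f.1, leOfHom f.2⟩)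
  map_id i := CommRingCat.hom_ext (fpStage_hom_ext φ (by
    simp [fpTrans_comp_algebraMap]))
  map_comp f g := CommRingCat.hom_ext (fpStage_hom_ext φ (by
    simp [fpTrans_comp_algebraMap, RingHom.comp_assoc]))

/-- The map of a stage to the field. -/
def fpToK (i : FpIdx φ) : FpStage φ i →+* K :=
  fpLift φ i φ.hom (fun a _ => a.2) (fun a _ => a.2)

/-- The cocone on the diagram of stages. -/
def fpCocone : Cocone (fpDiag φ) where
  pt := K
  ι :=
    { app := fun i => CommRingCat.ofHom (fpToK φ i)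
      naturality := fun i j f => CommRingCat.hom_ext (fpStage_hom_ext φ (by
        simp only [fpDiag, fpToK, Functor.const_obj_map, Category.comp_id, CommRingCat.hom_comp,
          CommRingCat.hom_ofHom, RingHom.comp_assoc, fpTrans_comp_algebraMap]
        exact (fpLift_comp φ j φ.hom (fun a _ => a.2) (fun a _ => a.2)).trans
          (fpLift_comp φ i φ.hom (fun a _ => a.2) (fun a _ => a.2)).symm)) }

variable (hfrac : ∀ z : K, ∃ a s : A, IsUnit (φ.hom s) ∧ z * φ.hom s = φ.hom a)

include hfrac in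
theorem exists_fpToK_eq (z : K) : ∃ i x, z = fpToK φ i x := by
  classical
  obtain ⟨a, s, hs, h⟩ := hfrac z
  let i : FpIdx φ := ({⟨s, hs⟩}, ∅)
  obtain ⟨w, hw⟩ := isUnit_algebraMap_fpStage φ (i := i) (a := ⟨s, hs⟩) (Finset.mem_singleton_self _)
  refine ⟨i, algebraMap A (FpStage φ i) a * (↑w⁻¹ : FpStage φ i), ?_⟩
  apply hs.mul_right_cancel
  have h1 : fpToK φ i (↑w⁻¹ : FpStage φ i) * φ.hom s = 1 := by
    rw [← fpLift_algebraMap φ i φ.hom (fun a _ => a.2) (fun a _ => a.2) s]
    refine ((fpToK φ i).map_mul _ _).symm.trans ?_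
    rw [← hw, Units.inv_mul, map_one]
  rw [h, map_mul, mul_assoc, h1, mul_one]
  exact (fpLift_algebraMap φ i φ.hom _ _ a).symm

theorem exists_fpTrans_eq {i : FpIdx φ} {x y : FpStage φ i} (h : fpToK φ i x = fpToK φ i y) :
    ∃ (j : FpIdx φ) (hij : i ≤ j), fpTrans φ hij x = fpTrans φ hij y := by
  classical
  obtain ⟨d, hd⟩ := Ideal.Quotient.mk_surjective (x - y)
  obtain ⟨⟨a, m⟩, ha⟩ := IsLocalization.surj (Submonoid.powers (∏ a ∈ i.1, (a : A))) d
  have hz : algebraMap A (FpStage φ i) a = (x - y) * algebraMap A (FpStage φ i) m := by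
    have := congrArg (Ideal.Quotient.mk (fpIdeal φ i)) ha
    rw [map_mul, hd] at this
    exact this.symm
  have hφa : φ.hom a = 0 := by
    rw [← fpLift_algebraMap φ i φ.hom (fun a _ => a.2) (fun a _ => a.2) a, hz]
    show fpToK φ i _ = 0
    rw [map_mul, map_sub, h, sub_self, zero_mul]
  refine ⟨(i.1, insert ⟨a, hφa⟩ i.2), ⟨le_rfl, Finset.subset_insert _ _⟩, ?_⟩
  set j : FpIdx φ := (i.1, insert ⟨a, hφa⟩ i.2) with hj
  have hij : i ≤ j := ⟨le_rfl, Finset.subset_insert _ _⟩
  have ha0 : algebraMap A (FpStage φ j) a = 0 :=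
    algebraMap_fpStage_eq_zero φ (i := j) (a := ⟨a, hφa⟩) (Finset.mem_insert_self _ _)
  have hu : IsUnit (algebraMap A (FpStage φ j) m) := by
    obtain ⟨n, hn⟩ := m.2
    rw [← hn]
    simp only [map_pow]
    exact (isUnit_prod_map φ _ fun a ha => isUnit_algebraMap_fpStage φ ha).pow n
  have := congrArg (fpTrans φ hij) hz
  rw [map_mul, ← RingHom.comp_apply, ← RingHom.comp_apply, fpTrans_comp_algebraMap, ha0] at this
  rw [← sub_eq_zero, ← map_sub]
  exact hu.mul_left_eq_zero.1 this.symm

instance isFiltered_fpIdx : IsFiltered (FpIdx φ) := by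
  classical
  infer_instance

/-- The cocone of stages is colimit. -/
def isColimitFpCocone : IsColimit (fpCocone φ) :=
  haveI : ReflectsColimit (fpDiag φ) (forget CommRingCat.{u}) :=
    reflectsColimit_of_reflectsIsomorphisms _ _
  isColimitOfReflects (forget CommRingCat.{u})
    (Types.FilteredColimit.isColimitOf' _ _ (exists_fpToK_eq φ hfrac) fun i x y h => by
      obtain ⟨j, hij, e⟩ := exists_fpTrans_eq φ h
      exact ⟨j, ⟨homOfLE hij.1, homOfLE hij.2⟩, e⟩)

include hfrac in
/-- An affine scheme `Spec K`, `K` a quotient of a localization of `A`, is a limit of affine schemes of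
finite presentation immersed in `Spec A`. -/
theorem exists_fp_presentation_imm :
    ∃ (I : Type u) (_ : SmallCategory I) (_ : IsCofiltered I) (D : I ⥤ Scheme.{u}) (c : Cone D)
      (t : D ⟶ (Functor.const I).obj (Spec A)) (e : Spec K ≅ c.pt),
      Nonempty (IsLimit c) ∧ (∀ i, IsAffine (D.obj i)) ∧ (∀ i, LocallyOfFinitePresentation (t.app i)) ∧ (∀ i, IsImmersion (t.app i)) ∧
        ∀ i, e.hom ≫ c.π.app i ≫ t.app i = Spec.map φ := by
  refine ⟨(FpIdx φ)ᵒᵖ, inferInstance, inferInstance, (fpDiag φ).op ⋙ Scheme.Spec,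
    Scheme.Spec.mapCone (fpCocone φ).op,
    { app := fun i => Spec.map (CommRingCat.ofHom (algebraMap A (FpStage φ i.unop)))
      naturality := fun i j f => by
        simp only [Functor.const_obj_map, Functor.comp_map, Functor.op_map,
          Scheme.Spec_map]
        rw [← Spec.map_comp]
        congr 1
        exact CommRingCat.hom_ext (fpTrans_comp_algebraMap φ ⟨leOfHom f.unop.1, leOfHom f.unop.2⟩) },
    Iso.refl _, ⟨isLimitOfPreserves Scheme.Spec (isColimitFpCocone φ hfrac).op⟩,
    fun i => ?_, fun i => ?_, fun i => ?_, fun i => ?_⟩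
  · exact inferInstanceAs (IsAffine (Spec _))
  · rw [HasRingHomProperty.Spec_iff (P := @LocallyOfFinitePresentation)]
    show (algebraMap A (FpStage φ i.unop)).FinitePresentation
    rw [RingHom.finitePresentation_algebraMap]
    haveI : Algebra.FinitePresentation A (FpLoc φ i.unop) :=
      IsLocalization.Away.finitePresentation (∏ a ∈ i.unop.1, (a : A))
    exact Algebra.FinitePresentation.quotient (Submodule.fg_span ((i.unop.2.finite_toSet).image _))
  · show IsImmersion (Spec.map (CommRingCat.ofHom (algebraMap A (FpStage φ i.unop))))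
    rw [show algebraMap A (FpStage φ i.unop) = (Ideal.Quotient.mk (fpIdeal φ i.unop)).comp
      (algebraMap A (FpLoc φ i.unop)) from rfl, CommRingCat.ofHom_comp, Spec.map_comp]
    haveI : IsClosedImmersion (Spec.map (CommRingCat.ofHom (Ideal.Quotient.mk (fpIdeal φ i.unop)))) :=
      IsClosedImmersion.spec_of_surjective _ Ideal.Quotient.mk_surjective
    haveI : IsOpenImmersion (Spec.map (CommRingCat.ofHom (algebraMap A (FpLoc φ i.unop)))) :=
      IsOpenImmersion.of_isLocalization (∏ a ∈ i.unop.1, (a : A))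
    infer_instance
  · simp only [Iso.refl_hom, Functor.mapCone_π_app, Scheme.Spec_map]
    erw [← Spec.map_comp]
    congr 1
    exact CommRingCat.hom_ext (fpLift_comp φ _ φ.hom (fun a _ => a.2) (fun a _ => a.2))

include hfrac in
/-- An affine scheme `Spec K`, `K` a quotient of a localization of `A`, is a limit of affine schemes of
finite presentation over `Spec A`. -/
theorem exists_fp_presentation :
    ∃ (I : Type u) (_ : SmallCategory I) (_ : IsCofiltered I) (D : I ⥤ Scheme.{u}) (c : Cone D)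
      (t : D ⟶ (Functor.const I).obj (Spec A)) (e : Spec K ≅ c.pt),
      Nonempty (IsLimit c) ∧ (∀ i, IsAffine (D.obj i)) ∧ (∀ i, LocallyOfFinitePresentation (t.app i)) ∧
        ∀ i, e.hom ≫ c.π.app i ≫ t.app i = Spec.map φ := by
  obtain ⟨I, h1, h2, D, c, t, e, hc, hD, ht, -, hce⟩ := exists_fp_presentation_imm φ hfrac
  exact ⟨I, h1, h2, D, c, t, e, hc, hD, ht, hce⟩

end Ring

/-- A set containing, with each of its points `s`, the image of a stage of every presentation of `Spec κ(s)`
as a limit of affine schemes immersed in `S` is ind-constructible. -/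
theorem isIndConstructible_of_spread_imm {S : Scheme.{u}} {E : Set S}
    (h : ∀ s ∈ E, ∀ (I : Type u) [SmallCategory I] [IsCofiltered I] (D : I ⥤ Scheme.{u}) (c : Cone D)
      (_ : IsLimit c) (e : Spec (S.residueField s) ≅ c.pt) (a : ∀ i, D.obj i ⟶ S),
      (∀ i, IsAffine (D.obj i)) → (∀ {i j : I} (f : i ⟶ j), D.map f ≫ a j = a i) →
      (∀ i, e.hom ≫ c.π.app i ≫ a i = S.fromSpecResidueField s) →
      (∀ i, IsImmersion (a i)) → ∃ i, Set.range (a i) ⊆ E) :
    ProCons.IsIndConstructible E := by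
  intro x
  obtain ⟨V, hV, hxV, -⟩ := exists_isAffineOpen_mem_and_subset (x := x) (U := ⊤) trivial
  haveI : IsAffine V.toScheme := hV
  refine ⟨V, V.2, hxV, {T : Set V.toScheme | IsLocallyConstructible T ∧ T ⊆ V.ι ⁻¹' E}, fun T hT => hT.1, ?_⟩
  refine Set.Subset.antisymm (fun s hs => ?_) (Set.sUnion_subset fun T hT => hT.2)
  obtain ⟨s, hsV⟩ := s
  let φ : Γ(S, V) ⟶ S.residueField s := S.presheaf.germ V s hsV ≫ S.residue s
  have hfrac : ∀ z : S.residueField s, ∃ a t : Γ(S, V), IsUnit (φ.hom t) ∧ z * φ.hom t = φ.hom a := by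
    intro z
    obtain ⟨w, rfl⟩ := S.residue_surjective s z
    letI := TopCat.Presheaf.algebra_section_stalk S.presheaf ⟨s, hsV⟩
    haveI := hV.isLocalization_stalk ⟨s, hsV⟩
    obtain ⟨⟨a, t⟩, hat⟩ := IsLocalization.surj (hV.primeIdealOf ⟨s, hsV⟩).asIdeal.primeCompl w
    refine ⟨a, t.1, (IsLocalization.map_units (S.presheaf.stalk s) t).map (S.residue s).hom, ?_⟩
    exact ((S.residue s).hom.map_mul _ _).symm.trans (congrArg (S.residue s).hom hat)
  obtain ⟨I, _, _, D, c, t, e, ⟨hc⟩, hD, ht, hti, hce⟩ := exists_fp_presentation_imm φ hfrac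
  have hφ : Spec.map φ ≫ hV.fromSpec = S.fromSpecResidueField s := by
    rw [Scheme.fromSpecResidueField, ← hV.fromSpecStalk_eq_fromSpecStalk hsV, IsAffineOpen.fromSpecStalk,
      ← Category.assoc, ← Spec.map_comp]
  let a : ∀ i, D.obj i ⟶ S := fun i => t.app i ≫ hV.fromSpec
  have hae : ∀ i, e.hom ≫ c.π.app i ≫ a i = S.fromSpecResidueField s := fun i => by
    simp only [a]
    rw [← Category.assoc (c.π.app i), ← Category.assoc e.hom, hce, hφ]
  obtain ⟨i, hi⟩ := h s hs I D c hc e a hD (fun {i j} f => by simp [a]) hae (fun i => by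
    haveI := hti i
    haveI : IsOpenImmersion hV.fromSpec := hV.isOpenImmersion_fromSpec
    infer_instance)
  haveI := hD i
  haveI := ht i
  let b : D.obj i ⟶ V.toScheme := t.app i ≫ hV.isoSpec.inv
  have hb : b ≫ V.ι = a i := by simp [b, a, IsAffineOpen.isoSpec_inv_ι]
  haveI : QuasiCompact b := inferInstance
  haveI : LocallyOfFinitePresentation b := inferInstance
  have hcons : IsConstructible (Set.range b) := by
    rw [← Set.image_univ]
    exact b.isConstructible_image IsConstructible.univ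
  refine Set.mem_sUnion.2 ⟨Set.range b, ⟨hcons.isLocallyConstructible, ?_⟩, ?_⟩
  · rintro _ ⟨d, rfl⟩
    show V.ι (b d) ∈ E
    rw [← Scheme.Hom.comp_apply, hb]
    exact hi ⟨d, rfl⟩
  · refine ⟨(e.hom ≫ c.π.app i) (IsLocalRing.closedPoint _), ?_⟩
    apply Subtype.ext
    show V.ι (b _) = s
    rw [← Scheme.Hom.comp_apply, hb, ← Scheme.Hom.comp_apply, Category.assoc, hae,
      Scheme.fromSpecResidueField_apply]

/-- A set containing, with each of its points `s`, the image of a stage of every presentation of `Spec κ(s)`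
as a limit of affine schemes is ind-constructible. -/
theorem isIndConstructible_of_spread {S : Scheme.{u}} {E : Set S}
    (h : ∀ s ∈ E, ∀ (I : Type u) [SmallCategory I] [IsCofiltered I] (D : I ⥤ Scheme.{u}) (c : Cone D)
      (_ : IsLimit c) (e : Spec (S.residueField s) ≅ c.pt) (a : ∀ i, D.obj i ⟶ S),
      (∀ i, IsAffine (D.obj i)) → (∀ {i j : I} (f : i ⟶ j), D.map f ≫ a j = a i) →
      (∀ i, e.hom ≫ c.π.app i ≫ a i = S.fromSpecResidueField s) →
      ∃ i, Set.range (a i) ⊆ E) :
    ProCons.IsIndConstructible E :=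
  isIndConstructible_of_spread_imm fun s hs I _ _ D c hc e a hD haD hae _ => h s hs I D c hc e a hD haD hae

end Groth.Agent.FibreIndCons

end
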